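import Cfsg.Agent.N2.Cl.FldSp.MC
import Cfsg.Agent.N2.Cl.Fld.Red

/-!
# N2 (S3519), symplectic groups: the class `pFld` (helper47)

`GL_k(q).2`, `Sp_{2k/r}(q^r).r`, `GU_k(q).2` : an element of order `q ^ k - 1` or `q ^ k + 1` has one fixed point.
-/

set_option autoImplicit false
set_option linter.unusedSectionVars false

namespace Cfsg.Agent.N2C

open Cfsg.Agent.DS.Cl Cfsg.Agent.DS.Cl.Fwd Cfsg.Agent.SB.Cl Module
open Cfsg.Agent.TH.Cl (KSp)
open Cfsg.Agent.TH.Cl.FSO (FE SO)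
open Cfsg.Agent.N2C.Fld (TR Pair Dat red)

namespace FldSp

variable {K V : Type} [Field K] [Fintype K] [AddCommGroup V] [Module K V] [Finite V] {h : HF K V}

theorem MC.tr {R : Type} [CommRing R] [Algebra K R] (m : MC h R) (h1 : ∀ x, x ≠ 0 → m.ρ x = x ∨ m.ρ x = -x → IsUnit x) :
    TR m.j.range := by
  refine ⟨?_, ?_, ?_, ?_⟩
  · rintro _ ⟨x, rfl⟩ _ ⟨y, rfl⟩
    rw [← map_mul, ← map_mul, mul_comm]
  · rintro _ ⟨x, rfl⟩
    exact ⟨_, (m.star_j x).symm⟩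
  · rintro _ ⟨x, rfl⟩ e h0
    exact (h1 x (fun k => h0 (by rw [k, map_zero])) (Or.inl (m.inj (by rwa [← m.star_j])))).map m.j
  · rintro _ ⟨x, rfl⟩ e h0
    exact (h1 x (fun k => h0 (by rw [k, map_zero])) (Or.inr (m.inj (by rwa [← m.star_j, map_neg])))).map m.j

theorem MC.tr_split {L : Type} [Field L] [Algebra K L] (m : MC h (L × L)) (hρ : ∀ x y, m.ρ (x, y) = (y, x)) :
    TR m.j.range := m.tr fun ⟨x, y⟩ h0 e => by
  rw [hρ] at e
  have h1 : x ≠ 0 ∧ y ≠ 0 := by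
    rcases e with e | e <;> have e1 := (Prod.mk.inj e).1
    · exact ⟨fun k => h0 (Prod.ext k (e1.trans k)), fun k => h0 (Prod.ext (e1.symm.trans k) k)⟩
    · exact ⟨fun k => h0 (Prod.ext k (e1.trans (neg_eq_zero.2 k))), fun k => h0 (Prod.ext (neg_eq_zero.1 (e1.symm.trans k)) k)⟩
  exact Prod.isUnit_iff.2 ⟨h1.1.isUnit, h1.2.isUnit⟩

variable {F : FR h.EB} {k : ℕ} (o : KSp h F k)
include o

theorem exists_u {R : Type} [CommRing R] [Algebra K R] (m : MC h R) {g : R} (hg : g * m.ρ g = 1) {r : ℕ}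
    (hr : Algebra.adjoin K {g ^ r} = ⊤) : ∃ u ∈ (⁅F.Iso, F.Iso⁆ : Subgroup h.EBˣ), (∀ y, m.j y * u = u * m.j y) ∧
      ∀ x, (u : h.EB) ^ r * x = x * (u : h.EB) ^ r → x ∈ m.j.range :=
  ⟨mkU _ (m.uni hg), o.mem_comm (mem_Iso_max o.sp.2.2 (m.uni hg)), fun y => by
    rw [mkU_val, ← map_mul, ← map_mul, mul_comm], fun x hx => m.mem hr (by rwa [map_pow])⟩

theorem exists_u_split {L : Type} [Field L] [Finite L] [Algebra K L] (m : MC h (L × L)) (hρ : ∀ x y, m.ρ (x, y) = (y, x))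
    (hL : 2 * finrank K L = finrank K V) (hk : 3 ≤ k) {r : ℕ} (hr : r = 2 ∨ (r.Prime ∧ r ∣ finrank K L)) :
    ∃ u ∈ (⁅F.Iso, F.Iso⁆ : Subgroup h.EBˣ), (∀ y, m.j y * u = u * m.j y) ∧
      ∀ x, (u : h.EB) ^ r * x = x * (u : h.EB) ^ r → x ∈ m.j.range := by
  obtain ⟨g, g0, hg⟩ := split_gen (K := K) (L := L) (by have := o.dim; omega) hr
  exact exists_u o m (by rw [hρ, Prod.mk_mul_mk, mul_inv_cancel₀ g0, inv_mul_cancel₀ g0]; rfl) hg

variable [Nontrivial V] {H : Subgroup (RingAut h.EB)} {p : ℕ} (hk : 3 ≤ k) (c : Ctx F H p)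
include hk c

theorem pair {ε : h.EB} (P : Pair F H ε) : Gd F H := by
  obtain ⟨L, _, _, _, _, _, m, h1, h2, h3⟩ := exists_split (E := K) o.sp.1 P.idem P.add (map_smul (h.ap ε))
  obtain ⟨u, hu, h4, h5⟩ := exists_u_split o m h2 h1 hk (Or.inl rfl)
  have h6 : m.j (1, 0) = ε := h.ap_ext fun v => by simpa using h3 1 v
  exact P.gd c hu (h6 ▸ (h4 _).symm) (m.tr_split h2) h5

variable {E : Type} [Field E] [Fintype E] [DecidableEq E] [Algebra K E] [Module E V] [IsScalarTower K E V] {f : FE h E}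
  {l : h.EB} (d : Dat f F H l)
include d

theorem split {ε : h.EB} (h1 : ε * ε = ε) (h2 : ε + star ε = 1) (h3 : ∀ (z : E) v, h.ap ε (z • v) = z • h.ap ε v) :
    Gd F H := by
  obtain ⟨L, _, _, _, _, _, m, a1, a2, a3⟩ := exists_split o.sp.1 h1 h2 h3
  obtain ⟨u, hu, a4, a5⟩ := exists_u_split o m a2 a1 hk (Or.inr ⟨d.prime, Dvd.intro _ (finrank_mul_finrank K E L)⟩)
  have a6 : ∀ z, m.j (algebraMap E L z, 0) = f.ι z * ε := fun z => h.ap_ext fun v => by rw [a3, h.ap_mul, f.ap_ι]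
  have a7 : ∀ z, f.ι z * ε = ε * f.ι z := fun z => h.ap_ext fun v => by rw [h.ap_mul, h.ap_mul, f.ap_ι, f.ap_ι, h3]
  refine d.gd (TH.Cl.FSO.KSp.so o) c hu (f.mem_C.2 fun z => ?_) (m.tr_split a2) a5
  have a8 : f.ι z = m.j ((algebraMap E L z, 0) + m.ρ (algebraMap E L (f.σ z), 0)) := by
    rw [map_add, ← m.star_j, a6, a6, a7 (f.σ z), star_mul, f.star_ι, f.σ_σ, ← mul_add, h2, mul_one]
  rw [a8, a4]

theorem fld : Gd F H := by
  have s := TH.Cl.FSO.KSp.so o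
  rcases d.kind with ⟨k1, θ, hθ⟩ | hσ
  · have hσ : f.σ ≠ RingHom.id E := fun e => hθ (by rw [e]; rfl)
    have h1 : finrank E V = k := by
      have h1 := finrank_mul_finrank K E V
      rw [k1, o.dim] at h1
      omega
    rcases Nat.even_or_odd (finrank E V) with ⟨n, hn⟩ | h2
    · obtain ⟨ε, a1, a2, a3⟩ := eps_herm f s hσ hn
      exact split o hk c d a1 a2 a3
    obtain ⟨L, _, _, _, _, _, m, a1, a2, a3⟩ := exists_sing f s hσ k1 h2
    obtain ⟨g, g1, g2⟩ := sing_gen (K := K) (L := L) (k := k) (by omega) (a1.trans o.dim)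
    obtain ⟨u, hu, a4, a5⟩ := exists_u o m (by rwa [a2, h1]) g2
    exact d.gd s c hu (f.mem_C.2 fun z => by rw [← a3, a4]) (m.tr fun x h0 _ => h0.isUnit) (k1 ▸ a5)
  · obtain ⟨ε, a1, a2, a3⟩ := eps_alt f hσ fun x => by rw [f.β_self s d.mem d.L, hσ, map_neg, map_one]; ring
    exact split o hk c d a1 a2 a3

end FldSp

/-- **[FldSp]** -/
theorem fldSp : OnSp 3 pFld := fun K V _ _ _ _ _ h F k H p o hk c hF => by
  have : Nontrivial V := Module.nontrivial_of_finrank_pos (R := K) (by rw [o.dim]; omega)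
  rcases red (TH.Cl.FSO.KSp.so o) c hF with ⟨ε, P⟩ | ⟨E, _, _, _, _, _, _, f, l, d⟩
  · exact FldSp.pair o hk c P
  · exact FldSp.fld o hk c d

end Cfsg.Agent.N2C
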