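import Mathlib

/-!
# N2 (S3519), field extension subgroups of symplectic groups: generators of `L × L` and of `L` (helper47)
-/

set_option autoImplicit false

namespace Cfsg.Agent.N2C.FldSp

open Module Polynomial

theorem num_big {q k i : ℕ} (hq : 2 ≤ q) (hk : 5 ≤ k) (hi : 2 * i ≤ k) : k * (q ^ i + 1) + 1 < q ^ k := by
  have h0 : ∀ m, m + 3 + 1 ≤ 2 ^ (m + 2) := fun m => by
    induction m with
    | zero => norm_num
    | succ m ih => rw [show m + 1 + 2 = m + 2 + 1 by ring, pow_succ]; omega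
  have h1 : q ^ i ≤ q ^ (k / 2) := Nat.pow_le_pow_right (by omega) (by omega)
  refine lt_of_le_of_lt (Nat.add_le_add_right (Nat.mul_le_mul_left k (Nat.add_le_add_right h1 1)) 1) ?_
  obtain ⟨m, rfl | rfl⟩ := Nat.even_or_odd' k
  · obtain ⟨n, rfl⟩ : ∃ n, m = n + 3 := ⟨m - 3, by omega⟩
    have h2 : 2 * 2 ^ (n + 2) ≤ q ^ (n + 3) := by
      rw [← pow_succ']
      exact Nat.pow_le_pow_left hq _
    have h3 := h0 n
    rw [show 2 * (n + 3) / 2 = n + 3 by omega, two_mul, pow_add q (n + 3)]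
    generalize q ^ (n + 3) = c at h2
    nlinarith
  · obtain ⟨n, rfl⟩ : ∃ n, m = n + 2 := ⟨m - 2, by omega⟩
    have h2 : 2 ^ (n + 2) ≤ q ^ (n + 2) := Nat.pow_le_pow_left hq _
    have h3 := h0 n
    rw [show (2 * (n + 2) + 1) / 2 = n + 2 by omega, pow_succ q (2 * (n + 2)), two_mul, pow_add q (n + 2)]
    generalize q ^ (n + 2) = c at h2
    have h4 : c * c * 2 ≤ c * c * q := Nat.mul_le_mul_left _ hq
    nlinarith

theorem num {q k i r c : ℕ} (hq : 2 ≤ q) (hk : 3 ≤ k) (hi : 2 * i ≤ k) (hr : r = 2 ∨ (r.Prime ∧ r ∣ k)) (c0 : 0 < c)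
    (hc : c ≤ q ^ i + 1) : ¬ q ^ k - 1 ∣ r * c := fun h => by
  have r0 : 0 < r := hr.elim (fun e => by omega) fun e => e.1.pos
  have r1 : r ≤ k := hr.elim (fun e => by omega) fun e => Nat.le_of_dvd (by omega) e.2
  have h1 := Nat.le_of_dvd (Nat.mul_pos r0 c0) h
  by_cases h5 : 5 ≤ k
  · have h2 := num_big hq h5 hi
    have h3 := Nat.mul_le_mul r1 hc
    omega
  obtain rfl | rfl : k = 3 ∨ k = 4 := by omega
  · have h2 : q ^ i ≤ q ^ 1 := Nat.pow_le_pow_right (by omega) (by omega)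
    rw [pow_one] at h2
    by_cases h3 : q = 2
    · subst h3
      have h4 : c ≤ 3 := by omega
      interval_cases r <;> interval_cases c <;> simp at h
    have h3 := Nat.mul_le_mul r1 (hc.trans (Nat.add_le_add_right h2 1))
    have h4 : 3 * 3 * q ≤ q * q * q := Nat.mul_le_mul_right _ (Nat.mul_le_mul (by omega) (by omega))
    rw [show q ^ 3 = q * q * q by ring] at h1
    omega
  · obtain rfl : r = 2 := hr.elim id fun e =>
      (Nat.prime_dvd_prime_iff_eq e.1 Nat.prime_two).1 (e.1.dvd_of_dvd_pow (show r ∣ 2 ^ 2 from e.2))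
    have h2 : q ^ i ≤ q ^ 2 := Nat.pow_le_pow_right (by omega) (by omega)
    have h3 : 2 ^ 2 ≤ q ^ 2 := Nat.pow_le_pow_left hq 2
    rw [show q ^ 4 = q ^ 2 * q ^ 2 by ring] at h1
    have h4 : 4 * q ^ 2 ≤ q ^ 2 * q ^ 2 := Nat.mul_le_mul_right _ h3
    omega

variable {K L : Type} [Field K] [Fintype K] [Field L] [Finite L] [Algebra K L]

theorem frob_pow (n : ℕ) (x : L) : (FiniteField.frobeniusAlgEquivOfAlgebraic K L ^ n) x = x ^ Fintype.card K ^ n := by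
  rw [AlgEquiv.coe_pow, FiniteField.coe_frobeniusAlgEquivOfAlgebraic_iterate]

theorem gal_half (θ : L ≃ₐ[K] L) : ∃ i, 2 * i ≤ finrank K L ∧
    ((∀ x, θ x = x ^ Fintype.card K ^ i) ∨ ∀ x, θ⁻¹ x = x ^ Fintype.card K ^ i) := by
  obtain ⟨⟨n, hn⟩, rfl⟩ := (FiniteField.bijective_frobeniusAlgEquivOfAlgebraic_pow K L).2 θ
  by_cases h : 2 * n ≤ finrank K L
  · exact ⟨n, h, Or.inl (frob_pow n)⟩
  refine ⟨finrank K L - n, by omega, Or.inr fun x => ?_⟩
  rw [← frob_pow]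
  congr 1
  rw [inv_eq_iff_mul_eq_one, ← pow_add, Nat.add_sub_cancel' hn.le, ← FiniteField.orderOf_frobeniusAlgEquivOfAlgebraic,
    pow_orderOf_eq_one]

theorem mem_range {x : L} (hx : x ^ Fintype.card K = x) : x ∈ (algebraMap K L).range := by
  have h1 : ∀ i, x ^ Fintype.card K ^ i = x := fun i => by
    induction i with
    | zero => simp
    | succ i ih => rw [pow_succ, pow_mul, ih, hx]
  refine (IsGalois.mem_range_algebraMap_iff_fixed x).2 fun θ => ?_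
  obtain ⟨i, -, h | h⟩ := gal_half θ
  · rw [h, h1]
  · conv_lhs => rw [← h1 i, ← h]
    exact θ.apply_symm_apply x

omit [Fintype K] in
theorem adjoin_top {s : L} (h : ∀ θ : L ≃ₐ[K] L, θ s = s → θ = 1) : Algebra.adjoin K {s} = ⊤ := by
  have := Finite.of_injective _ (algebraMap K L).injective
  have h1 : (IntermediateField.adjoin K {s}).fixingSubgroup = ⊥ :=
    eq_bot_iff.2 fun θ hθ => h θ (hθ ⟨s, IntermediateField.mem_adjoin_simple_self K s⟩)
  have h2 := IsGalois.fixedField_fixingSubgroup (IntermediateField.adjoin K {s})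
  rw [h1, IntermediateField.fixedField_bot] at h2
  rw [← IntermediateField.adjoin_simple_toSubalgebra_of_isAlgebraic (Algebra.IsAlgebraic.isAlgebraic s), ← h2]
  rfl

omit [Fintype K] in
theorem adjoin_pair {s : L} (h1 : ∀ θ : L ≃ₐ[K] L, θ s = s → θ = 1) (h2 : ∀ θ : L ≃ₐ[K] L, θ s ≠ s⁻¹) :
    Algebra.adjoin K {(s, s⁻¹)} = ⊤ := by
  have := Finite.of_injective _ (algebraMap K L).injective
  have := Fintype.ofFinite L
  have a1 : ∀ f : K[X], (aeval s f, aeval s⁻¹ f) ∈ Algebra.adjoin K {(s, s⁻¹)} := fun f => by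
    rw [Algebra.adjoin_singleton_eq_range_aeval]
    exact ⟨f, aeval_prod_apply (s, s⁻¹) f⟩
  have a2 : aeval s (minpoly K s⁻¹) ≠ 0 := fun e => by
    obtain ⟨θ, hθ⟩ := minpoly.exists_algEquiv_of_root (Algebra.IsAlgebraic.isAlgebraic _) e
    exact h2 θ hθ
  have a3 : ((1, 0) : L × L) ∈ Algebra.adjoin K {(s, s⁻¹)} := by
    have a3 := pow_mem (a1 (minpoly K s⁻¹)) (Fintype.card L - 1)
    rwa [minpoly.aeval, Prod.pow_mk, FiniteField.pow_card_sub_one_eq_one _ a2,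
      zero_pow (Nat.sub_ne_zero_of_lt Fintype.one_lt_card)] at a3
  refine eq_top_iff.2 fun ⟨x, y⟩ _ => ?_
  obtain ⟨f, rfl⟩ := ((adjoin_top h1).symm.trans (Algebra.adjoin_singleton_eq_range_aeval K s)).le (Algebra.mem_top (x := x))
  obtain ⟨g, rfl⟩ := ((adjoin_top (s := s⁻¹) fun θ e => h1 θ (by rwa [map_inv₀, inv_inj] at e)).symm.trans
    (Algebra.adjoin_singleton_eq_range_aeval K s⁻¹)).le (Algebra.mem_top (x := y))
  convert add_mem (mul_mem a3 (a1 f)) (mul_mem (sub_mem (one_mem _) a3) (a1 g)) using 1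
  ext <;> simp

theorem exists_gen : ∃ g : L, g ≠ 0 ∧ ∀ n, g ^ n = 1 ↔ Fintype.card K ^ finrank K L - 1 ∣ n := by
  classical
  have := Fintype.ofFinite L
  obtain ⟨g, hg⟩ := IsCyclic.exists_ofOrder_eq_natCard (α := Lˣ)
  refine ⟨g, g.ne_zero, fun n => ?_⟩
  rw [← Module.card_eq_pow_finrank, ← Fintype.card_units, ← Nat.card_eq_fintype_card, ← hg, orderOf_dvd_iff_pow_eq_one,
    Units.ext_iff, Units.val_pow_eq_pow_val, Units.val_one]

theorem eq_one_of {s : L} (s0 : s ≠ 0) (h : ∀ i, 0 < i → 2 * i ≤ finrank K L → s ^ (Fintype.card K ^ i - 1) ≠ 1)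
    (θ : L ≃ₐ[K] L) (e : θ s = s) : θ = 1 := by
  have h1 : ∀ θ : L ≃ₐ[K] L, θ s = s → ∀ i, 2 * i ≤ finrank K L → (∀ x, θ x = x ^ Fintype.card K ^ i) → θ = 1 :=
    fun θ e i hi h1 => by
    rcases i.eq_zero_or_pos with rfl | i0
    · exact AlgEquiv.ext fun x => by simpa using h1 x
    refine absurd (mul_right_cancel₀ s0 ?_) (h i i0 hi)
    rw [← pow_succ, Nat.sub_add_cancel (Nat.one_le_pow _ _ Fintype.card_pos), ← h1, e, one_mul]
  obtain ⟨i, hi, h2 | h2⟩ := gal_half θ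
  · exact h1 θ e i hi h2
  · exact inv_eq_one.1 (h1 θ⁻¹ (θ.symm_apply_eq.2 e.symm) i hi h2)

/-- the torus of order `q ^ k - 1` -/
theorem split_gen {r : ℕ} (hk : 3 ≤ finrank K L) (hr : r = 2 ∨ (r.Prime ∧ r ∣ finrank K L)) :
    ∃ g : L, g ≠ 0 ∧ Algebra.adjoin K {((g, g⁻¹) : L × L) ^ r} = ⊤ := by
  obtain ⟨g, g0, hg⟩ := exists_gen (K := K) (L := L)
  have hq : 2 ≤ Fintype.card K := Fintype.one_lt_card
  refine ⟨g, g0, ?_⟩
  rw [Prod.pow_mk, inv_pow]
  refine adjoin_pair (eq_one_of (pow_ne_zero r g0) fun i i0 hi e => ?_) fun θ e => ?_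
  · rw [← pow_mul, hg] at e
    exact num hq hk hi hr (Nat.sub_pos_of_lt (Nat.one_lt_pow i0.ne' hq)) (by omega) e
  have h1 : ∀ θ : L ≃ₐ[K] L, θ (g ^ r) = (g ^ r)⁻¹ → ∀ i, 2 * i ≤ finrank K L →
      (∀ x, θ x = x ^ Fintype.card K ^ i) → False := fun θ e i hi h1 =>
    num hq hk hi hr (Nat.succ_pos _) le_rfl ((hg _).1 (by
      rw [pow_mul, pow_succ, ← h1, e, inv_mul_cancel₀ (pow_ne_zero r g0)]))
  obtain ⟨i, hi, h2 | h2⟩ := gal_half θ
  · exact h1 θ e i hi h2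
  · exact h1 θ⁻¹ (θ.symm_apply_eq.2 (by rw [map_inv₀, e, inv_inv])) i hi h2

/-- the torus of order `q ^ k + 1` -/
theorem sing_gen {k : ℕ} (hk : 2 ≤ k) (hL : finrank K L = 2 * k) :
    ∃ g : L, g * g ^ Fintype.card K ^ k = 1 ∧ Algebra.adjoin K {g ^ 2} = ⊤ := by
  obtain ⟨g, g0, hg⟩ := exists_gen (K := K) (L := L)
  have hq : 2 ≤ Fintype.card K := Fintype.one_lt_card
  have h1 : 2 ^ 2 ≤ Fintype.card K ^ k := (Nat.pow_le_pow_right two_pos hk).trans (Nat.pow_le_pow_left hq k)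
  have h2 : Fintype.card K ^ finrank K L - 1 = (Fintype.card K ^ k - 1) * (Fintype.card K ^ k + 1) := by
    rw [hL, mul_comm 2, pow_mul, mul_comm, ← Nat.sq_sub_sq, one_pow]
  refine ⟨g ^ (Fintype.card K ^ k - 1), by rw [← pow_succ', ← pow_mul, hg, h2], adjoin_top (eq_one_of
    (pow_ne_zero _ (pow_ne_zero _ g0)) fun i i0 hi e => ?_)⟩
  rw [← pow_mul, ← pow_mul, hg, h2] at e
  obtain ⟨c, hc⟩ := Nat.dvd_of_mul_dvd_mul_left (by omega) e
  have h3 := Nat.one_lt_pow i0.ne' hq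
  have h4 : Fintype.card K ^ i = Fintype.card K ^ k ∨ Fintype.card K ^ i * 2 ≤ Fintype.card K ^ k := by
    rcases (show i ≤ k by omega).eq_or_lt with e | e
    · exact Or.inl (by rw [e])
    · exact Or.inr ((Nat.mul_le_mul_left _ hq).trans (Nat.pow_le_pow_right (by omega) e))
  generalize Fintype.card K ^ i = a at *
  generalize Fintype.card K ^ k = b at *
  rcases c with _ | _ | c
  · omega
  · omega
  · rw [mul_add, mul_add] at hc
    omega

end Cfsg.Agent.N2C.FldSp
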