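import Cfsg.Agent.N2.Cl.Defs
import Cfsg.Agent.N2.Cl.FldSp.Gen
import Cfsg.Agent.TH.Cl.FldSO.Form
import Cfsg.Agent.TH.Cl.Cases.Par

/-!
# N2 (S3519), field extension subgroups: self-centralising commutative subrings (helper47)

`gd_of` : the criterion `fix = 1`.  `MC h R` : a self-centralising copy of `R` in `h.EB`, closed under the involution.
`exists_split` : `R = L × L` from a pair of totally isotropic subspaces; `exists_sing` : `R` a field of degree `dim V`.
-/

set_option autoImplicit false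
set_option linter.unusedSectionVars false

namespace Cfsg.Agent.N2C.FldSp

open Cfsg.Agent.DS.Cl Cfsg.Agent.DS.Cl.Fwd Cfsg.Agent.SB.Cl Module
open Cfsg.Agent.TH.Cl (cj_mem_S)
open Cfsg.Agent.TH.Cl.FSO (FE SO)

section ring

variable {A : Type} [Ring A] [StarRing A] [Finite A] {F : FR A} {H : Subgroup (RingAut A)} {p : ℕ}

/-- **the criterion `fix = 1`** -/
theorem gd_of (c : Ctx F H p) {X : Set A} (hX : Inv H X) (hS : ¬ Inv F.S X) {u : Aˣ}
    (hu : u ∈ (⁅F.Iso, F.Iso⁆ : Subgroup Aˣ)) (h1 : ∀ x ∈ X, (u : A) * x = x * u) {r : ℕ}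
    (h2 : ∀ γ ∈ H, γ ∈ F.S → ∀ x ∈ X, (γ ^ r) x = x)
    (h3 : ∀ t ∈ F.S, ∀ x ∈ X, (u : A) ^ r * t x = t x * (u : A) ^ r → t x ∈ X) : Gd F H := by
  refine N2.good_of_one (a := ⟨cj A u, cj_mem_S hu⟩)
    (c.mem_of_inv hX hS (cj_mem_S hu) (s := cj A u) fun x hx => by rwa [cj_eq_of_mul (h1 x hx)])
    (N2.fx_le_one fun t ht => c.mem_of_inv hX hS t.2 fun x hx => h3 t t.2 x hx ?_)
  have h4 := h2 ((t : RingAut A)⁻¹ * cj A u * (t : RingAut A)⁻¹⁻¹) ht
    (mul_mem (mul_mem (inv_mem t.2) (cj_mem_S hu)) (inv_mem (inv_mem t.2))) x hx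
  rw [conj_pow, inv_inv, ← map_pow, ra_mul, ra_mul] at h4
  have h6 := congrArg (t : RingAut A) h4
  rw [ra_apply_inv] at h6
  rw [← Units.val_pow_eq_pow_val, ← cj_mul_eq, h6]

end ring

variable {K V : Type} [Field K] [Fintype K] [AddCommGroup V] [Module K V] [Finite V]

/-- a self-centralising commutative subring -/
structure MC (h : HF K V) (R : Type) [CommRing R] [Algebra K R] where
  /-- the embedding -/
  j : R →+* h.EB
  /-- the involution -/
  ρ : R →+* R
  star_j : ∀ x, star (j x) = j (ρ x)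
  alg : ∀ c v, h.ap (j (algebraMap K R c)) v = c • v
  inj : Function.Injective j
  cent : ∀ a, (∀ y, j y * a = a * j y) → a ∈ j.range

variable {h : HF K V}

theorem MC.mem {R : Type} [CommRing R] [Algebra K R] (m : MC h R) {s : R} (hs : Algebra.adjoin K {s} = ⊤) {a : h.EB}
    (ha : m.j s * a = a * m.j s) : a ∈ m.j.range := by
  refine m.cent a fun y => ?_
  have h1 : y ∈ Algebra.adjoin K {s} := hs.ge Algebra.mem_top
  induction h1 using Algebra.adjoin_induction with
  | mem x hx => rwa [hx]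
  | algebraMap c => exact h.ap_ext fun v => by rw [h.ap_mul, h.ap_mul, m.alg, m.alg, map_smul]
  | add x y _ _ hx hy => rw [map_add, add_mul, mul_add, hx, hy]
  | mul x y _ _ hx hy => rw [map_mul, mul_assoc, hy, ← mul_assoc, hx, mul_assoc]

theorem MC.uni {R : Type} [CommRing R] [Algebra K R] (m : MC h R) {g : R} (hg : g * m.ρ g = 1) :
    m.j g * star (m.j g) = 1 := by rw [m.star_j, ← map_mul, hg, map_one]

theorem exists_ext (E : Type) [Field E] [Finite E] {n : ℕ} (hn : 0 < n) :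
    ∃ (L : Type) (_ : Field L) (_ : Finite L) (_ : Algebra E L), finrank E L = n := by
  obtain ⟨p, hp⟩ := CharP.exists E
  have : Fact p.Prime := ⟨CharP.char_is_prime E p⟩
  have : NeZero n := ⟨hn.ne'⟩
  exact ⟨FiniteField.Extension E p n, inferInstance, inferInstance, inferInstance, FiniteField.finrank_extension E p n⟩

theorem rank_half {ε : h.EB} (h1 : ε * ε = ε) (h2 : ε + star ε = 1) :
    2 * finrank K (LinearMap.range (h.ap ε)) = finrank K V := by
  have : Module.Finite K V := Module.Finite.of_finite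
  have a1 := TH.Cl.Cases.dim_le (h := h) (e := ε) (by rw [sub_sub, h2, sub_self])
  have a2 := TH.Cl.Cases.dim_le (h := h) (e := star ε) (by rw [star_star, sub_sub, add_comm, h2, sub_self])
  rw [star_star] at a2
  have a3 := (h.ap ε).finrank_range_add_finrank_ker
  have a4 : LinearMap.range (h.ap (star ε)) ≤ LinearMap.ker (h.ap ε) := by
    rintro _ ⟨x, rfl⟩
    rw [LinearMap.mem_ker, ← h.ap_mul, eq_sub_of_add_eq' h2, mul_sub, h1, mul_one, sub_self]
    rfl
  have a5 := Submodule.finrank_mono a4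
  omega

variable {E : Type} [Field E] [Finite E] [Algebra K E] [Module E V] [IsScalarTower K E V]

/-- **the split torus** -/
theorem exists_split [Nontrivial V] (hτ : ∀ c, h.τ c = c) {ε : h.EB} (h1 : ε * ε = ε) (h2 : ε + star ε = 1)
    (h3 : ∀ (z : E) v, h.ap ε (z • v) = z • h.ap ε v) :
    ∃ (L : Type) (_ : Field L) (_ : Finite L) (_ : Algebra E L) (_ : Algebra K L) (_ : IsScalarTower K E L)
      (m : MC h (L × L)), 2 * finrank K L = finrank K V ∧ (∀ x y, m.ρ (x, y) = (y, x)) ∧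
      ∀ (z : E) v, h.ap (m.j (algebraMap E L z, 0)) v = z • h.ap ε v := by
  have : Module.Finite K V := Module.Finite.of_finite
  have : Module.Finite E V := Module.Finite.of_finite
  let e : V →ₗ[E] V := { toFun := h.ap ε, map_add' := map_add _, map_smul' := h3 }
  have a0 : finrank K E * finrank E (LinearMap.range e) = finrank K (LinearMap.range (h.ap ε)) :=
    finrank_mul_finrank K E (LinearMap.range e)
  have a1 := rank_half h1 h2
  have a2 : 0 < finrank K V := finrank_pos
  obtain ⟨L, _, _, _, hL⟩ := exists_ext E (n := finrank E (LinearMap.range e)) (Nat.pos_of_ne_zero fun e => by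
    rw [e] at a0; omega)
  let : Algebra K L := ((algebraMap E L).comp (algebraMap K E)).toAlgebra
  have : IsScalarTower K E L := IsScalarTower.of_algebraMap_eq fun _ => rfl
  have : Module.Finite E L := Module.Finite.of_finite
  let φ := LinearEquiv.ofFinrankEq (R := E) L (LinearMap.range e) hL
  obtain ⟨P, I, b1, b2⟩ : ∃ (P : V →ₗ[E] L) (I : L →ₗ[E] V), (∀ x, P (I x) = x) ∧ ∀ v, I (P v) = h.ap ε v :=
    ⟨φ.symm.toLinearMap ∘ₗ e.rangeRestrict, (LinearMap.range e).subtype ∘ₗ φ.toLinearMap, fun x => by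
      obtain ⟨v, hv⟩ := (φ x).2
      refine φ.symm_apply_eq.2 (Subtype.ext ?_)
      change h.ap ε (φ x) = φ x
      rw [← hv]
      exact congrArg (h.ap · v) h1, fun v => congrArg Subtype.val (φ.apply_symm_apply (e.rangeRestrict v))⟩
  obtain ⟨ι, hι⟩ : ∃ ι : L → h.EB, ∀ x v, h.ap (ι x) v = I (x * P v) :=
    ⟨fun x => h.eb ((I ∘ₗ LinearMap.mulLeft E x ∘ₗ P).restrictScalars K), fun _ _ => rfl⟩
  have c1 : ∀ x y, ι x * ι y = ι (x * y) := fun x y => h.ap_ext fun v => by rw [h.ap_mul, hι, hι, hι, b1, mul_assoc]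
  have c2 : ι 1 = ε := h.ap_ext fun v => by rw [hι, one_mul, b2]
  have c3 : ∀ x y, ι (x + y) = ι x + ι y := fun x y => h.ap_ext fun v => by rw [h.ap_add, hι, hι, hι, add_mul, map_add]
  have c4 : ι 0 = 0 := h.ap_ext fun v => by rw [hι, zero_mul, map_zero]; rfl
  have c5 : ∀ x y, ι x * star (ι y) = 0 := fun x y => by
    rw [← mul_one x, ← mul_one y, ← c1, ← c1, c2, star_mul, eq_sub_of_add_eq' h2, mul_assoc, ← mul_assoc ε, mul_sub, h1]
    simp
  have c6 : ∀ x y, star (ι x) * ι y = 0 := fun x y => by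
    rw [← one_mul x, ← one_mul y, ← c1, ← c1, c2, star_mul, eq_sub_of_add_eq' h2, mul_assoc, ← mul_assoc _ ε, sub_mul, h1]
    simp
  have c7 : ∀ (z : E) v, h.ap (ι (algebraMap E L z)) v = z • h.ap ε v := fun z v => by
    rw [hι, ← Algebra.smul_def, map_smul, b2]
  have c8 : ∀ x y, ι x = ι y → x = y := fun x y e => by
    have := congrArg (fun a => P (h.ap a (I 1))) e
    simpa only [hι, b1, mul_one] using this
  let j : L × L →+* h.EB :=
    { toFun := fun x => ι x.1 + star (ι x.2)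
      map_one' := by rw [Prod.fst_one, Prod.snd_one, c2, h2]
      map_mul' := fun x y => by
        rw [add_mul, mul_add, mul_add, c1, c5, c6, ← star_mul, c1, mul_comm y.2, add_zero, zero_add]
        rfl
      map_zero' := by rw [Prod.fst_zero, Prod.snd_zero, c4, star_zero, add_zero]
      map_add' := fun x y => by rw [Prod.fst_add, Prod.snd_add, c3, c3, star_add, add_add_add_comm] }
  have d0 : ∀ x y, j (x, y) = ι x + star (ι y) := fun _ _ => rfl
  have d1 : ∀ x, j (x, 0) = ι x := fun x => by rw [d0, c4, star_zero, add_zero]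
  have d2 : ∀ x, star (j x) = j (RingEquiv.prodComm x) := fun x => by
    rw [d0, star_add, star_star, add_comm]
    rfl
  have d3 : ∀ x y, j x = j y → x.1 = y.1 := fun x y e => c8 _ _ (by
    rw [← d1, ← d1, show (x.1, 0) = (1, 0) * x from Prod.ext (one_mul _).symm (zero_mul _).symm,
      show (y.1, 0) = (1, 0) * y from Prod.ext (one_mul _).symm (zero_mul _).symm, map_mul, map_mul, e])
  have d4 : ∀ a, (∀ y, j y * a = a * j y) → ε * a = ι (P (h.ap a (I 1))) := fun a ha => h.ap_ext fun v => by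
    have k1 : ∀ x w, I (x * P (h.ap a w)) = h.ap a (I (x * P w)) := fun x w => by
      rw [← hι, ← hι, ← d1, ← h.ap_mul, ha, h.ap_mul]
    rw [hι, mul_comm, k1, b1, mul_one, h.ap_mul, ← b2, ← one_mul (P _), k1, one_mul]
  refine ⟨L, inferInstance, inferInstance, inferInstance, inferInstance, inferInstance,
    ⟨j, (RingEquiv.prodComm : L × L ≃+* L × L), d2, fun c v => ?_, fun x y e => Prod.ext (d3 x y e)
      (d3 (RingEquiv.prodComm x) (RingEquiv.prodComm y) (by rw [← d2, ← d2, e])), fun a ha => ?_⟩, ?_, fun _ _ => rfl,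
    fun z v => (congrArg (h.ap · v) (d1 _)).trans (c7 z v)⟩
  · have k1 : ∀ v, h.ap (ι (algebraMap K L c)) v = c • h.ap ε v := fun v =>
      (c7 (algebraMap K E c) v).trans (algebraMap_smul E c _)
    change h.ap (ι (algebraMap K L c) + star (ι (algebraMap K L c))) v = _
    refine h.ext_right fun u => ?_
    rw [h.ap_add, h.add_right, h.b_star, k1, k1, h.smul_left, h.smul_right, h.smul_right, hτ, ← mul_add, ← h.b_star,
      ← h.add_right, ← h.ap_add, h2, h.ap_one]
  · have k1 := d4 a ha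
    have k2 := congrArg star (d4 (star a) fun y => by
      rw [← star_star (j y), ← star_mul, ← star_mul, d2, ha])
    have k3 := ha (1, 0)
    rw [d1, c2] at k3
    exact ⟨(_, _), (d0 _ _).trans ((congrArg₂ (· + ·) k1 k2).symm.trans (by
      rw [star_mul, star_star, k3, ← mul_add, h2, mul_one]))⟩
  · rw [← finrank_mul_finrank K E L, hL, a0, a1]

/-- orthonormal coordinates -/
theorem herm_coord {W : Type} [AddCommGroup W] [Module E W] [Module.Finite E W] (g : HF E W) (h1 : g.ε = 1)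
    (h2 : g.τ ≠ RingHom.id E) {I : Type} [Fintype I] (hI : Fintype.card I = finrank E W) :
    ∃ e : (I → E) ≃ₗ[E] W, ∀ x y, g.b (e x) (e y) = ∑ i, x i * g.τ (y i) := by
  classical
  let B : W →ₛₗ[g.τ] W →ₗ[E] E := LinearMap.mk₂'ₛₗ g.τ (RingHom.id E) (fun v w => g.b w v)
    (fun _ _ _ => g.add_right _ _ _) (fun _ _ _ => g.smul_right _ _ _) (fun _ _ _ => g.add_left _ _ _)
    fun _ _ _ => g.smul_left _ _ _
  obtain ⟨c, hc⟩ := ClassicalGeometry.HermOrthonormal.exists_orthonormal_basis h2 g.τ_τ B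
    ⟨fun v w => by
      change g.τ (g.b w v) = g.b v w
      rw [g.swap w v, h1, one_mul]⟩ fun v hv => g.nondeg v hv
  let c' := c.reindex (Fintype.equivFinOfCardEq hI).symm
  have h3 : ∀ i j, B (c' i) (c' j) = if i = j then 1 else 0 := fun i j => by
    simp only [c', Basis.reindex_apply, hc, EmbeddingLike.apply_eq_iff_eq]
  refine ⟨c'.equivFun.symm, fun x y => ?_⟩
  change B _ _ = _
  simp only [Basis.equivFun_symm_apply, map_sum, LinearMap.sum_apply, LinearMap.map_smulₛₗ, map_smul,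
    LinearMap.smul_apply, h3, smul_eq_mul, mul_ite, mul_one, mul_zero, Finset.sum_ite_eq', Finset.mem_univ, if_true]

section fe

variable {E : Type} [Field E] [Fintype E] [DecidableEq E] [Algebra K E] [Module E V] [IsScalarTower K E V] [Nontrivial V]
  (f : FE h E) {F : FR h.EB} {s κ : K}

theorem eps_of (P : V →ₗ[E] V) (h1 : ∀ x, P (P x) = P x) (h2 : ∀ x y, f.β (P x) y + f.β x (P y) = f.β x y) :
    ∃ ε : h.EB, ε * ε = ε ∧ ε + star ε = 1 ∧ ∀ (z : E) v, h.ap ε (z • v) = z • h.ap ε v := by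
  refine ⟨h.eb (P.restrictScalars K), h.ap_ext h1, h.ap_ext fun y => h.ext_right fun x => ?_, P.map_smul⟩
  rw [h.ap_add, h.add_right, h.b_star, f.b_eq, f.b_eq, f.b_eq, ← map_add, add_comm]
  exact congrArg _ (h2 x y)

/-- alternating forms over `E` -/
theorem eps_alt (hσ : ∀ z, f.σ z = z) (h0 : ∀ x, f.β x x = 0) :
    ∃ ε : h.EB, ε * ε = ε ∧ ε + star ε = 1 ∧ ∀ (z : E) v, h.ap ε (z • v) = z • h.ap ε v := by
  have : Module.Finite E V := Module.Finite.of_finite
  let B : LinearMap.BilinForm E V := LinearMap.mk₂ E f.β f.β_add_left f.β_smul_left f.β_add_right fun c u v => by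
    rw [f.β_smul_right, hσ, smul_eq_mul]
  have hB : B.IsAlt := h0
  obtain ⟨m, l, c, c1, c2, c3, c4⟩ := Cfsg.Agent.S0752.result B hB
  let P : V →ₗ[E] V := c.constr E (Sum.elim (Sum.elim (fun i => c (.inl (.inl i))) 0) 0)
  have a1 : P ∘ₗ P = P := c.ext (by rintro ((i | i) | i) <;> simp [P])
  have a2 : B.compLeft P + B.compRight P = B := LinearMap.ext_basis c c (by
    have c5 : ∀ j v, B v (c (.inr j)) = 0 := fun j v => by rw [← hB.neg_eq, c4, neg_zero]
    rintro ((i | i) | i) ((j | j) | j) <;> simp [P, c2, c3, c4, c5])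
  exact eps_of f P (LinearMap.congr_fun a1) (LinearMap.congr_fun₂ a2)

variable (o : SO h F s κ) (hσ : f.σ ≠ RingHom.id E)
include o hσ

theorem exists_herm : ∃ (g : HF E V) (δ : E), δ ≠ 0 ∧ g.ε = 1 ∧ g.τ = f.σ ∧ ∀ x y, g.b x y = δ * f.β x y := by
  obtain ⟨θ, hθ⟩ := ClassicalGeometry.InvolutiveNorm.exists_sigma_ne hσ
  obtain ⟨u, u0, hu⟩ : ∃ u : E, u ≠ 0 ∧ f.σ u = algebraMap K E s * u := by
    rcases o.alt with e | e <;> rw [e.1]
    · exact ⟨_, sub_ne_zero.2 hθ, by rw [map_sub, f.σ_σ, map_neg, map_one]; ring⟩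
    · exact ⟨1, one_ne_zero, by simp⟩
  exact ⟨⟨f.σ, 1, fun x y => u * f.β x y, fun _ _ _ => by rw [f.β_add_left, mul_add],
    fun _ _ _ => by rw [f.β_smul_left, mul_left_comm], fun x y => by rw [f.β_swap o, map_mul, hu]; ring, f.σ_σ,
    fun v hv => f.β_ext fun y => by rw [(mul_eq_zero.1 (hv y)).resolve_left u0, f.β_zero_right]⟩, u, u0, rfl, rfl,
    fun _ _ => rfl⟩

/-- hermitian forms of even dimension -/
theorem eps_herm {m : ℕ} (hm : finrank E V = m + m) :
    ∃ ε : h.EB, ε * ε = ε ∧ ε + star ε = 1 ∧ ∀ (z : E) v, h.ap ε (z • v) = z • h.ap ε v := by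
  have : Module.Finite E V := Module.Finite.of_finite
  obtain ⟨g, δ, δ0, g1, g2, g3⟩ := exists_herm f o hσ
  obtain ⟨e, he⟩ := herm_coord g g1 (g2 ▸ hσ) (I := Fin m ⊕ Fin m) (by simp [hm])
  obtain ⟨a, ha⟩ := ClassicalGeometry.InvolutiveNorm.exists_add_sigma_eq hσ f.σ_σ (map_one f.σ)
  obtain ⟨b, hb⟩ := ClassicalGeometry.InvolutiveNorm.exists_mul_sigma_eq hσ f.σ_σ (a := -(a * f.σ a)) (by
    rw [map_neg, map_mul, f.σ_σ, mul_comm])
  let P : (Fin m ⊕ Fin m → E) →ₗ[E] (Fin m ⊕ Fin m → E) :=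
    { toFun := fun x => Sum.elim (fun i => a * x (.inl i) + b * x (.inr i)) fun i => f.σ a * x (.inr i) - f.σ b * x (.inl i)
      map_add' := fun x y => funext (by rintro (i | i) <;> simp <;> ring)
      map_smul' := fun c x => funext (by rintro (i | i) <;> simp <;> ring) }
  have p1 : ∀ x i, P x (.inl i) = a * x (.inl i) + b * x (.inr i) := fun _ _ => rfl
  have p2 : ∀ x i, P x (.inr i) = f.σ a * x (.inr i) - f.σ b * x (.inl i) := fun _ _ => rfl
  refine eps_of f (e.toLinearMap ∘ₗ P ∘ₗ e.symm.toLinearMap) (fun x => ?_) fun x y => mul_left_cancel₀ δ0 ?_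
  · change e (P (e.symm (e (P (e.symm x))))) = e (P (e.symm x))
    rw [e.symm_apply_apply]
    refine congrArg e (funext ?_)
    rintro (i | i)
    · rw [p1, p1, p2]
      linear_combination (a * e.symm x (.inl i) + b * e.symm x (.inr i)) * ha - e.symm x (.inl i) * hb
    · rw [p2, p1, p2]
      linear_combination (f.σ a * e.symm x (.inr i) - f.σ b * e.symm x (.inl i)) * ha - e.symm x (.inr i) * hb
  obtain ⟨x, rfl⟩ := e.surjective x
  obtain ⟨y, rfl⟩ := e.surjective y
  change δ * (f.β (e (P (e.symm (e x)))) (e y) + f.β (e x) (e (P (e.symm (e y))))) = _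
  rw [e.symm_apply_apply, e.symm_apply_apply, mul_add, ← g3, ← g3, ← g3, he, he, he, g2, Fintype.sum_sum_type,
    Fintype.sum_sum_type, Fintype.sum_sum_type, ← Finset.sum_add_distrib, ← Finset.sum_add_distrib,
    ← Finset.sum_add_distrib, ← Finset.sum_add_distrib]
  refine Finset.sum_congr rfl fun i _ => ?_
  simp only [p1, p2, map_add, map_sub, map_mul, f.σ_σ]
  linear_combination (x (.inl i) * f.σ (y (.inl i)) + x (.inr i) * f.σ (y (.inr i))) * ha

/-- **the Singer cycle of a unitary group of odd dimension** -/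
theorem exists_sing (hE : finrank K E = 2) (hk : Odd (finrank E V)) :
    ∃ (L : Type) (_ : Field L) (_ : Finite L) (_ : Algebra E L) (_ : Algebra K L) (_ : IsScalarTower K E L)
      (m : MC h L), finrank K L = finrank K V ∧ (∀ x, m.ρ x = x ^ Fintype.card K ^ finrank E V) ∧
      ∀ z : E, m.j (algebraMap E L z) = f.ι z := by
  have : Module.Finite E V := Module.Finite.of_finite
  obtain ⟨L, _, _, _, hL⟩ := exists_ext E hk.pos
  let : Algebra K L := ((algebraMap E L).comp (algebraMap K E)).toAlgebra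
  have : IsScalarTower K E L := IsScalarTower.of_algebraMap_eq fun _ => rfl
  have : Module.Finite E L := Module.Finite.of_finite
  have a1 : finrank K L = 2 * finrank E V := by rw [← finrank_mul_finrank K E L, hL, hE]
  let ρ := FiniteField.frobeniusAlgEquivOfAlgebraic K L ^ finrank E V
  have a2 : ∀ x, ρ (ρ x) = x := fun x => by
    rw [← AlgEquiv.mul_apply, ← pow_add, ← two_mul, ← a1, ← FiniteField.orderOf_frobeniusAlgEquivOfAlgebraic,
      pow_orderOf_eq_one, AlgEquiv.one_apply]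
  let σ : E ≃ₐ[K] E := { RingEquiv.ofRingHom f.σ f.σ (RingHom.ext f.σ_σ) (RingHom.ext f.σ_σ) with commutes' := f.σ_alg o }
  have a3 : σ = FiniteField.frobeniusAlgEquivOfAlgebraic K E ^ finrank E V := by
    obtain ⟨⟨n, hn⟩, e⟩ := (FiniteField.bijective_frobeniusAlgEquivOfAlgebraic_pow K E).2 σ
    obtain ⟨i, hi⟩ := hk
    rw [hi, pow_succ, pow_mul, ← hE, ← FiniteField.orderOf_frobeniusAlgEquivOfAlgebraic, pow_orderOf_eq_one, one_pow,
      one_mul, ← e]
    obtain rfl | rfl : n = 0 ∨ n = 1 := by omega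
    · exact absurd (RingHom.ext fun z => (AlgEquiv.congr_fun e z).symm) hσ
    · exact pow_one _
  have a4 : ∀ z, ρ (algebraMap E L z) = algebraMap E L (f.σ z) := fun z => by
    rw [show f.σ z = σ z from rfl, a3, frob_pow, frob_pow, map_pow]
  have a5 : ∀ x, Algebra.trace E L (ρ x) = f.σ (Algebra.trace E L x) := fun x => by
    rw [Algebra.trace_eq_of_equiv_equiv σ.toRingEquiv ρ.toRingEquiv (RingHom.ext fun z => (a4 z).symm) x]
    exact (σ.apply_symm_apply _).symm
  let g' : HF E L := ⟨f.σ, 1, fun x y => Algebra.trace E L (x * ρ y), fun _ _ _ => by rw [add_mul, map_add],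
    fun _ _ _ => by rw [smul_mul_assoc, map_smul, smul_eq_mul], fun x y => by
      rw [one_mul, ← a5, map_mul ρ, a2, mul_comm], f.σ_σ, fun v hv => by
      rw [← a2 v, (traceForm_nondegenerate E L).2 (ρ v) hv, map_zero]⟩
  obtain ⟨g, δ, δ0, g1, g2, g3⟩ := exists_herm f o hσ
  obtain ⟨e, he⟩ := herm_coord g g1 (g2 ▸ hσ) (Fintype.card_fin _)
  obtain ⟨e', he'⟩ := herm_coord g' rfl hσ ((Fintype.card_fin _).trans hL.symm)
  obtain ⟨φ, hφ⟩ : ∃ φ : L ≃ₗ[E] V, ∀ x y, δ * f.β (φ x) (φ y) = Algebra.trace E L (x * ρ y) :=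
    ⟨e'.symm.trans e, fun x y => by
      obtain ⟨x, rfl⟩ := e'.surjective x
      obtain ⟨y, rfl⟩ := e'.surjective y
      rw [LinearEquiv.trans_apply, LinearEquiv.trans_apply, e'.symm_apply_apply, e'.symm_apply_apply, ← g3, he, g2]
      exact (he' x y).symm⟩
  let j : L →+* h.EB :=
    { toFun := fun x => h.eb ((φ.toLinearMap ∘ₗ LinearMap.mulLeft E x ∘ₗ φ.symm.toLinearMap).restrictScalars K)
      map_one' := h.ap_ext fun v => by simp [h.ap_eb, h.ap_one]
      map_mul' := fun x y => h.ap_ext fun v => by simp [h.ap_eb, h.ap_mul, mul_assoc]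
      map_zero' := h.ap_ext fun v => by simp [h.ap_eb, SB.Tor.ap_zero]
      map_add' := fun x y => h.ap_ext fun v => by simp [h.ap_eb, h.ap_add, add_mul] }
  have b1 : ∀ x y, h.ap (j x) (φ y) = φ (x * y) := fun x y => congrArg (fun w => φ (x * w)) (φ.symm_apply_apply y)
  have b2 : ∀ z : E, j (algebraMap E L z) = f.ι z := fun z => h.ap_ext fun v => by
    obtain ⟨y, rfl⟩ := φ.surjective v
    rw [b1, ← Algebra.smul_def, map_smul, f.ap_ι]
  have : Nontrivial h.EB := h.ss.nontrivial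
  refine ⟨L, inferInstance, inferInstance, inferInstance, inferInstance, inferInstance,
    ⟨j, ρ, fun x => h.ap_ext fun v => h.ext_right fun u => ?_, fun c v => ?_, j.injective, fun a ha => ?_⟩,
    by rw [a1, ← hE, finrank_mul_finrank], frob_pow _, b2⟩
  · obtain ⟨y, rfl⟩ := φ.surjective v
    obtain ⟨w, rfl⟩ := φ.surjective u
    rw [h.b_star, b1, b1, f.b_eq, f.b_eq]
    refine congrArg _ (mul_left_cancel₀ δ0 ?_)
    rw [hφ, hφ, RingHom.coe_coe, map_mul ρ, a2, mul_comm x, mul_assoc]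
  · exact ((congrArg (h.ap · v) (b2 (algebraMap K E c))).trans (f.ap_ι _ _)).trans (algebraMap_smul E c v)
  · refine ⟨φ.symm (h.ap a (φ 1)), h.ap_ext fun v => ?_⟩
    obtain ⟨y, rfl⟩ := φ.surjective v
    rw [b1, mul_comm, ← b1, φ.apply_symm_apply, ← h.ap_mul, ha, h.ap_mul, b1, mul_one]

end fe

end Cfsg.Agent.N2C.FldSp
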